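import Mathlib
import Groth.Agent.Lib.Helper9.GenFree.Main2
import Groth.Agent.Lib.Helper9.GenFree.Conv

/-! helper7: images of constructible sets under finite type ring maps: a dense open part of the
closure of each image point lies in the image (via generic freeness); Jacobson consequences. -/

set_option linter.style.haveILetI false
set_option linter.unusedVariables false
set_option linter.unusedSectionVars false
set_option autoImplicit false

open TensorProduct

namespace Groth.Agent.Helper7.ConsImg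

universe u

open Groth.Agent.Helper9.GenFree

/-- Compatibility of the two ways to go from `Spec (A ⊗[R] T)` down to `Spec R`. -/
theorem comap_includeRight_comap {R A T : Type*} [CommRing R] [CommRing A] [CommRing T]
    [Algebra R A] [Algebra R T] (Q : PrimeSpectrum (A ⊗[R] T)) :
    PrimeSpectrum.comap (algebraMap R T)
      (PrimeSpectrum.comap (Algebra.TensorProduct.includeRight : T →ₐ[R] A ⊗[R] T).toRingHom Q) =
    PrimeSpectrum.comap (algebraMap R A) (PrimeSpectrum.comap (algebraMap A (A ⊗[R] T)) Q) := by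
  have h : ((Algebra.TensorProduct.includeRight : T →ₐ[R] A ⊗[R] T).toRingHom).comp
      (algebraMap R T) = (algebraMap A (A ⊗[R] T)).comp (algebraMap R A) := by
    ext x
    change (1 : A) ⊗ₜ[R] (algebraMap R T x) = (algebraMap R A x) ⊗ₜ[R] (1 : T)
    rw [Algebra.algebraMap_eq_smul_one (A := T), Algebra.algebraMap_eq_smul_one (A := A),
      TensorProduct.smul_tmul]
  rw [← PrimeSpectrum.comap_comp_apply, ← PrimeSpectrum.comap_comp_apply, h]

/-- Lemma A: over a domain, the image of `Spec T → Spec R` for `T` of finite type contains a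
nonempty basic open as soon as it contains the generic point. -/
theorem exists_ne_zero_forall_mem_range_of_isDomain {R T : Type u} [CommRing R] [IsDomain R]
    [CommRing T] [Algebra R T] [Algebra.FiniteType R T]
    (P : PrimeSpectrum T) (hP : P.asIdeal.comap (algebraMap R T) = ⊥) :
    ∃ a : R, a ≠ 0 ∧ ∀ q : PrimeSpectrum R, a ∉ q.asIdeal →
      q ∈ Set.range (PrimeSpectrum.comap (algebraMap R T)) := by
  obtain ⟨a, ha, hfree⟩ := (goodRing_of_finiteType' R T T).exists_free
  refine ⟨a, ha, fun q hq => ?_⟩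
  have hM : Nontrivial (LocalizedModule (Submonoid.powers a) T) := by
    refine ⟨⟨LocalizedModule.mkLinearMap (Submonoid.powers a) T 1, 0, fun h0 => ?_⟩⟩
    obtain ⟨⟨c, n, rfl⟩, hc⟩ := (IsLocalizedModule.eq_zero_iff (Submonoid.powers a)
      (LocalizedModule.mkLinearMap (Submonoid.powers a) T)).mp h0
    have h1 : algebraMap R T (a ^ n) = 0 := by
      rw [Algebra.algebraMap_eq_smul_one]; exact hc
    have h2 : a ^ n ∈ P.asIdeal.comap (algebraMap R T) := by
      rw [Ideal.mem_comap, h1]; exact zero_mem _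
    rw [hP] at h2
    exact pow_ne_zero n ha (Ideal.mem_bot.mp h2)
  let Ra := Localization.Away a
  have hbc : IsBaseChange Ra (LocalizedModule.mkLinearMap (Submonoid.powers a) T) :=
    IsLocalizedModule.isBaseChange (Submonoid.powers a) Ra _
  let e : Ra ⊗[R] T ≃ₗ[Ra] LocalizedModule (Submonoid.powers a) T := hbc.equiv
  haveI : Module.Free Ra (Ra ⊗[R] T) := Module.Free.of_equiv e.symm
  haveI : Nontrivial (Ra ⊗[R] T) := e.toEquiv.nontrivial
  haveI : Module.FaithfullyFlat Ra (Ra ⊗[R] T) := inferInstance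
  have hsurj := PrimeSpectrum.comap_surjective_of_faithfullyFlat (A := Ra) (B := Ra ⊗[R] T)
  have hq' : q ∈ Set.range (PrimeSpectrum.comap (algebraMap R Ra)) := by
    rw [PrimeSpectrum.localization_away_comap_range Ra a]
    exact hq
  obtain ⟨qa, hqa⟩ := hq'
  obtain ⟨Q', hQ'⟩ := hsurj qa
  refine ⟨PrimeSpectrum.comap
    (Algebra.TensorProduct.includeRight : T →ₐ[R] Ra ⊗[R] T).toRingHom Q', ?_⟩
  rw [comap_includeRight_comap, hQ', hqa]

/-- Lemma A': the image of `Spec T → Spec R` for `T` of finite type contains a dense open part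
of the closure of each of its points. -/
theorem exists_notMem_forall_mem_range {R T : Type u} [CommRing R] [CommRing T] [Algebra R T]
    [Algebra.FiniteType R T] (p : PrimeSpectrum R)
    (hp : p ∈ Set.range (PrimeSpectrum.comap (algebraMap R T))) :
    ∃ a : R, a ∉ p.asIdeal ∧ ∀ q : PrimeSpectrum R, p.asIdeal ≤ q.asIdeal → a ∉ q.asIdeal →
      q ∈ Set.range (PrimeSpectrum.comap (algebraMap R T)) := by
  obtain ⟨P, hP⟩ := hp
  have hPp : ∀ x : R, algebraMap R T x ∈ P.asIdeal ↔ x ∈ p.asIdeal := by
    intro x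
    rw [← hP]
    exact Iff.rfl
  let R' := R ⧸ p.asIdeal
  let T' := R' ⊗[R] T
  have hlift : ∀ a ∈ p.asIdeal, (Algebra.ofId R (T ⧸ P.asIdeal)) a = 0 := by
    intro a ha
    change algebraMap R (T ⧸ P.asIdeal) a = 0
    rw [IsScalarTower.algebraMap_apply R T (T ⧸ P.asIdeal), Ideal.Quotient.algebraMap_eq,
      Ideal.Quotient.eq_zero_iff_mem]
    exact (hPp a).mpr ha
  let ψ : T' →ₐ[R] T ⧸ P.asIdeal :=
    Algebra.TensorProduct.productMap
      (Ideal.Quotient.liftₐ p.asIdeal (Algebra.ofId R (T ⧸ P.asIdeal)) hlift)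
      (Ideal.Quotient.mkₐ R P.asIdeal)
  let P' : PrimeSpectrum T' := ⟨RingHom.ker ψ.toRingHom, RingHom.ker_isPrime _⟩
  have hP' : P'.asIdeal.comap (algebraMap R' T') = ⊥ := by
    rw [eq_bot_iff]
    intro x' hx'
    obtain ⟨x, rfl⟩ := Ideal.Quotient.mk_surjective x'
    rw [Ideal.mem_comap] at hx'
    have h1 : ψ (algebraMap R' T' (Ideal.Quotient.mk p.asIdeal x)) = 0 := hx'
    rw [Algebra.TensorProduct.algebraMap_apply] at h1
    have h2 : ψ ((Ideal.Quotient.mk p.asIdeal x) ⊗ₜ[R] (1 : T)) =
        Ideal.Quotient.mk P.asIdeal (algebraMap R T x) := by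
      refine (Algebra.TensorProduct.productMap_apply_tmul _ _ _ _).trans ?_
      rw [map_one, mul_one]
      rfl
    rw [Ideal.mem_bot, Ideal.Quotient.eq_zero_iff_mem, ← hPp, ← Ideal.Quotient.eq_zero_iff_mem,
      ← h2]
    exact h1
  haveI : IsDomain R' := Ideal.Quotient.isDomain p.asIdeal
  obtain ⟨a', ha', hrange⟩ := exists_ne_zero_forall_mem_range_of_isDomain (R := R') (T := T') P' hP'
  obtain ⟨a, rfl⟩ := Ideal.Quotient.mk_surjective a'
  refine ⟨a, fun ha => ha' (Ideal.Quotient.eq_zero_iff_mem.mpr ha), fun q hpq hq => ?_⟩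
  have hq1 : q ∈ Set.range (PrimeSpectrum.comap (Ideal.Quotient.mk p.asIdeal)) := by
    rw [range_comap_of_surjective _ _ Ideal.Quotient.mk_surjective, Ideal.mk_ker]
    exact hpq
  obtain ⟨q', hq'⟩ := hq1
  have hq2 : Ideal.Quotient.mk p.asIdeal a ∉ q'.asIdeal := by
    intro h
    apply hq
    rw [← hq']
    exact h
  obtain ⟨Q', hQ'⟩ := hrange q' hq2
  refine ⟨PrimeSpectrum.comap
    (Algebra.TensorProduct.includeRight : T →ₐ[R] R' ⊗[R] T).toRingHom Q', ?_⟩
  rw [comap_includeRight_comap, hQ']
  exact hq'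

/-- The ring whose spectrum is the basic constructible piece `V(g₁,…,gₙ) \ V(f)`. -/
abbrev Piece {S : Type u} [CommRing S] (C : PrimeSpectrum.BasicConstructibleSetData S) : Type u :=
  Localization.Away (Ideal.Quotient.mk (Ideal.span (Set.range C.g)) C.f)

theorem range_comap_piece {S : Type u} [CommRing S]
    (C : PrimeSpectrum.BasicConstructibleSetData S) :
    Set.range (PrimeSpectrum.comap (algebraMap S (Piece C))) = C.toSet := by
  let I := Ideal.span (Set.range C.g)
  let f := Ideal.Quotient.mk I C.f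
  trans PrimeSpectrum.comap (Ideal.Quotient.mk I) ''
    (Set.range (PrimeSpectrum.comap (algebraMap _ (Localization.Away f))))
  · rw [← Set.range_comp]; rfl
  · rw [PrimeSpectrum.localization_away_comap_range _ f, ← PrimeSpectrum.comap_basicOpen,
      TopologicalSpace.Opens.coe_comap, ContinuousMap.coe_mk, Set.image_preimage_eq_inter_range,
      range_comap_of_surjective _ _ Ideal.Quotient.mk_surjective,
      PrimeSpectrum.BasicConstructibleSetData.toSet,
      Set.sdiff_eq_compl_inter, PrimeSpectrum.basicOpen_eq_zeroLocus_compl, Ideal.mk_ker,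
      PrimeSpectrum.zeroLocus_span]

instance finiteType_piece {R S : Type u} [CommRing R] [CommRing S] [Algebra R S]
    [Algebra.FiniteType R S] (C : PrimeSpectrum.BasicConstructibleSetData S) :
    Algebra.FiniteType R (Piece C) := by
  have h1 : Algebra.FiniteType R (S ⧸ Ideal.span (Set.range C.g)) :=
    Algebra.FiniteType.of_surjective (Ideal.Quotient.mkₐ R _) Ideal.Quotient.mk_surjective
  have h3 : Algebra.FinitePresentation (S ⧸ Ideal.span (Set.range C.g)) (Piece C) :=
    IsLocalization.Away.finitePresentation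
      (Ideal.Quotient.mk (Ideal.span (Set.range C.g)) C.f)
  have h2 : Algebra.FiniteType (S ⧸ Ideal.span (Set.range C.g)) (Piece C) :=
    Algebra.FiniteType.of_finitePresentation
  exact Algebra.FiniteType.trans h1 h2

/-- The image of a basic constructible piece under `Spec S → Spec R` is the range of the
spectrum of the piece algebra. -/
theorem image_toSet_eq_range {R S : Type u} [CommRing R] [CommRing S] [Algebra R S]
    (C : PrimeSpectrum.BasicConstructibleSetData S) :
    PrimeSpectrum.comap (algebraMap R S) '' C.toSet =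
      Set.range (PrimeSpectrum.comap (algebraMap R (Piece C))) := by
  rw [← range_comap_piece, ← Set.range_comp, IsScalarTower.algebraMap_eq R S (Piece C)]
  rfl

/-- Core of S9651 for one piece. -/
theorem exists_open_of_mem_image_piece {R S : Type u} [CommRing R] [CommRing S] [Algebra R S]
    [Algebra.FiniteType R S] (C : PrimeSpectrum.BasicConstructibleSetData S)
    (ξ : PrimeSpectrum R) (hξ : ξ ∈ PrimeSpectrum.comap (algebraMap R S) '' C.toSet) :
    ∃ U : Set (PrimeSpectrum R), IsOpen U ∧
      closure ({ξ} : Set (PrimeSpectrum R)) ⊆ closure (U ∩ closure {ξ}) ∧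
      U ∩ closure {ξ} ⊆ PrimeSpectrum.comap (algebraMap R S) '' C.toSet := by
  rw [image_toSet_eq_range] at hξ ⊢
  obtain ⟨a, ha, hq⟩ := exists_notMem_forall_mem_range ξ hξ
  refine ⟨PrimeSpectrum.basicOpen a, (PrimeSpectrum.basicOpen a).isOpen, ?_, ?_⟩
  · apply closure_mono
    rintro _ rfl
    exact ⟨ha, subset_closure rfl⟩
  · rintro q ⟨hqa, hqc⟩
    rw [← specializes_iff_mem_closure, ← PrimeSpectrum.le_iff_specializes] at hqc
    exact hq q hqc hqa

/-- S9651. -/
theorem exists_open_of_mem_image {R S : Type u} [CommRing R] [CommRing S] [Algebra R S]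
    [Algebra.FiniteType R S] (E : Set (PrimeSpectrum S)) (hE : Topology.IsConstructible E)
    (ξ : PrimeSpectrum R) (hξ : ξ ∈ PrimeSpectrum.comap (algebraMap R S) '' E) :
    ∃ U : Set (PrimeSpectrum R), IsOpen U ∧
      closure ({ξ} : Set (PrimeSpectrum R)) ⊆ closure (U ∩ closure {ξ}) ∧
      U ∩ closure {ξ} ⊆ PrimeSpectrum.comap (algebraMap R S) '' E := by
  obtain ⟨D, rfl⟩ := PrimeSpectrum.exists_constructibleSetData_iff.mpr hE
  obtain ⟨y, hy, rfl⟩ := hξ
  simp only [PrimeSpectrum.ConstructibleSetData.toSet, Set.mem_iUnion] at hy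
  obtain ⟨C, hC, hyC⟩ := hy
  obtain ⟨U, hU, h1, h2⟩ := exists_open_of_mem_image_piece (R := R) C _ ⟨y, hyC, rfl⟩
  refine ⟨U, hU, h1, h2.trans (Set.image_mono ?_)⟩
  intro z hz
  exact Set.mem_biUnion hC hz

/-- Lemma C: a point in the closure of the part of the image lying in its own closure is in
the image. -/
theorem mem_range_of_mem_closure {R T : Type*} [CommRing R] [CommRing T] (φ : R →+* T)
    (p : PrimeSpectrum R)
    (h : p ∈ closure (closure {p} ∩ Set.range (PrimeSpectrum.comap φ))) :
    p ∈ Set.range (PrimeSpectrum.comap φ) := by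
  rw [PrimeSpectrum.mem_range_comap_iff]
  refine le_antisymm ?_ Ideal.le_comap_map
  intro x hx
  by_contra hxp
  obtain ⟨q, hq1, hq2, Q, rfl⟩ := mem_closure_iff.mp h (PrimeSpectrum.basicOpen x)
    (PrimeSpectrum.basicOpen x).isOpen hxp
  rw [← specializes_iff_mem_closure, ← PrimeSpectrum.le_iff_specializes] at hq2
  apply hq1
  change φ x ∈ Q.asIdeal
  have h1 : Ideal.map φ p.asIdeal ≤ Q.asIdeal := by
    rw [Ideal.map_le_iff_le_comap]
    exact hq2
  exact h1 hx

/-- Converse direction of S9653 without any Jacobson hypothesis. -/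
theorem mem_image_of_mem_closure {R S : Type u} [CommRing R] [CommRing S] [Algebra R S]
    (E : Set (PrimeSpectrum S)) (hE : Topology.IsConstructible E) (ξ : PrimeSpectrum R)
    (h : ξ ∈ closure (closure {ξ} ∩ PrimeSpectrum.comap (algebraMap R S) '' E)) :
    ξ ∈ PrimeSpectrum.comap (algebraMap R S) '' E := by
  obtain ⟨D, rfl⟩ := PrimeSpectrum.exists_constructibleSetData_iff.mpr hE
  have h1 : closure {ξ} ∩ PrimeSpectrum.comap (algebraMap R S) '' D.toSet =
      ⋃ C ∈ D, (closure {ξ} ∩ Set.range (PrimeSpectrum.comap (algebraMap R (Piece C)))) := by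
    rw [PrimeSpectrum.ConstructibleSetData.toSet, Set.image_iUnion₂, Set.inter_iUnion₂]
    refine Set.iUnion₂_congr fun C hC => ?_
    rw [image_toSet_eq_range]
  have h3 := Set.Finite.closure_biUnion D.finite_toSet
    (fun C => closure {ξ} ∩ Set.range (PrimeSpectrum.comap (algebraMap R (Piece C))))
  simp only [Finset.mem_coe] at h3
  rw [h1, h3] at h
  simp only [Set.mem_iUnion] at h
  obtain ⟨C, hC, hCξ⟩ := h
  have h2 := mem_range_of_mem_closure _ ξ hCξ
  rw [← image_toSet_eq_range] at h2
  refine Set.image_mono ?_ h2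
  intro z hz
  exact Set.mem_biUnion hC hz

/-- Contraction of a maximal ideal along a finite type map out of a Jacobson ring is maximal. -/
theorem isClosed_singleton_comap {R S : Type u} [CommRing R] [CommRing S] [Algebra R S]
    [IsJacobsonRing R] [Algebra.FiniteType R S] (y : PrimeSpectrum S)
    (hy : IsClosed ({y} : Set (PrimeSpectrum S))) :
    IsClosed ({PrimeSpectrum.comap (algebraMap R S) y} : Set (PrimeSpectrum R)) := by
  rw [PrimeSpectrum.isClosed_singleton_iff_isMaximal] at hy ⊢
  haveI := hy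
  letI : Field (S ⧸ y.asIdeal) := Ideal.Quotient.field y.asIdeal
  haveI : Algebra.FiniteType R (S ⧸ y.asIdeal) :=
    Algebra.FiniteType.of_surjective (Ideal.Quotient.mkₐ R _) Ideal.Quotient.mk_surjective
  haveI : Module.Finite R (S ⧸ y.asIdeal) := finite_of_finite_type_of_isJacobsonRing R _
  haveI : Algebra.IsIntegral R (S ⧸ y.asIdeal) := inferInstance
  have h1 : ((⊥ : Ideal (S ⧸ y.asIdeal)).comap (algebraMap R (S ⧸ y.asIdeal))).IsMaximal :=
    Ideal.isMaximal_comap_of_isIntegral_of_isMaximal (R := R) (⊥ : Ideal (S ⧸ y.asIdeal))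
  convert h1 using 1
  ext x
  change algebraMap R S x ∈ y.asIdeal ↔ algebraMap R (S ⧸ y.asIdeal) x ∈ (⊥ : Ideal _)
  rw [Ideal.mem_bot, IsScalarTower.algebraMap_apply R S (S ⧸ y.asIdeal),
    Ideal.Quotient.algebraMap_eq, Ideal.Quotient.eq_zero_iff_mem]

theorem isLocallyClosed_toSet {S : Type u} [CommRing S]
    (C : PrimeSpectrum.BasicConstructibleSetData S) : IsLocallyClosed C.toSet := by
  rw [PrimeSpectrum.BasicConstructibleSetData.toSet, Set.sdiff_eq]
  exact (PrimeSpectrum.isClosed_zeroLocus _).isLocallyClosed.inter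
    (PrimeSpectrum.isClosed_zeroLocus _).isOpen_compl.isLocallyClosed

/-- Points of a constructible set `E` closed in `E` are closed points when the ring is Jacobson. -/
theorem isClosed_singleton_of_closed_in {S : Type u} [CommRing S] [IsJacobsonRing S]
    (E : Set (PrimeSpectrum S)) (hE : Topology.IsConstructible E) (y : PrimeSpectrum S)
    (hy : y ∈ E) (hyE : closure {y} ∩ E = {y}) : IsClosed ({y} : Set (PrimeSpectrum S)) := by
  obtain ⟨D, rfl⟩ := PrimeSpectrum.exists_constructibleSetData_iff.mpr hE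
  simp only [PrimeSpectrum.ConstructibleSetData.toSet, Set.mem_iUnion] at hy
  obtain ⟨C, hC, hyC⟩ := hy
  apply isClosed_singleton_of_isLocallyClosed_singleton
  have h1 : ({y} : Set (PrimeSpectrum S)) = closure {y} ∩ C.toSet := by
    apply subset_antisymm
    · rintro _ rfl
      exact ⟨subset_closure rfl, hyC⟩
    · exact fun z hz => hyE.subset ⟨hz.1, Set.mem_biUnion hC hz.2⟩
  rw [h1]
  exact isClosed_closure.isLocallyClosed.inter (isLocallyClosed_toSet C)

/-- A closed point in the image of a constructible set is the image of a closed point. -/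
theorem exists_closed_point_in_fibre {R S : Type u} [CommRing R] [CommRing S] [Algebra R S]
    [IsJacobsonRing S] (E : Set (PrimeSpectrum S)) (hE : Topology.IsConstructible E)
    (y : PrimeSpectrum S) (hy : y ∈ E)
    (hx : IsClosed ({PrimeSpectrum.comap (algebraMap R S) y} : Set (PrimeSpectrum R))) :
    ∃ y' ∈ E, IsClosed ({y'} : Set (PrimeSpectrum S)) ∧
      PrimeSpectrum.comap (algebraMap R S) y' = PrimeSpectrum.comap (algebraMap R S) y := by
  obtain ⟨D, rfl⟩ := PrimeSpectrum.exists_constructibleSetData_iff.mpr hE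
  simp only [PrimeSpectrum.ConstructibleSetData.toSet, Set.mem_iUnion] at hy
  obtain ⟨C, hC, hyC⟩ := hy
  have hZ : IsLocallyClosed (C.toSet ∩ PrimeSpectrum.comap (algebraMap R S) ⁻¹'
      {PrimeSpectrum.comap (algebraMap R S) y}) :=
    (isLocallyClosed_toSet C).inter
      (hx.preimage (PrimeSpectrum.continuous_comap _)).isLocallyClosed
  have hne : (C.toSet ∩ PrimeSpectrum.comap (algebraMap R S) ⁻¹'
      {PrimeSpectrum.comap (algebraMap R S) y}).Nonempty := ⟨y, hyC, rfl⟩
  obtain ⟨y', ⟨hy'1, hy'2⟩, hy'3⟩ := nonempty_inter_closedPoints hne hZ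
  exact ⟨y', Set.mem_biUnion hC hy'1, hy'3, hy'2⟩

/-- S9652. -/
theorem closedPoints_image {R S : Type u} [CommRing R] [CommRing S] [Algebra R S]
    [IsJacobsonRing R] [IsJacobsonRing S] [Algebra.FiniteType R S]
    (E : Set (PrimeSpectrum S)) (hE : Topology.IsConstructible E) :
    {x | x ∈ PrimeSpectrum.comap (algebraMap R S) '' E ∧
        closure {x} ∩ PrimeSpectrum.comap (algebraMap R S) '' E = {x}} =
        PrimeSpectrum.comap (algebraMap R S) '' {y | y ∈ E ∧ closure {y} ∩ E = {y}} ∧
      PrimeSpectrum.comap (algebraMap R S) '' {y | y ∈ E ∧ closure {y} ∩ E = {y}} =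
        {x | IsClosed ({x} : Set (PrimeSpectrum R))} ∩
          PrimeSpectrum.comap (algebraMap R S) '' E := by
  have hAB : {x | x ∈ PrimeSpectrum.comap (algebraMap R S) '' E ∧
        closure {x} ∩ PrimeSpectrum.comap (algebraMap R S) '' E = {x}} ⊆
        PrimeSpectrum.comap (algebraMap R S) '' {y | y ∈ E ∧ closure {y} ∩ E = {y}} := by
    rintro x ⟨hx1, hx2⟩
    obtain ⟨U, hU, h1, h2⟩ := exists_open_of_mem_image E hE x hx1
    have hsub : U ∩ closure {x} ⊆ {x} := fun z hz => hx2.subset ⟨hz.2, h2 hz⟩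
    have hxU : x ∈ U := by
      by_contra hxU
      have hemp : U ∩ closure {x} = ∅ := by
        rw [Set.eq_empty_iff_forall_notMem]
        rintro z ⟨hzU, hz⟩
        have := hsub ⟨hzU, hz⟩
        rw [Set.mem_singleton_iff] at this
        subst this
        exact hxU hzU
      rw [hemp, closure_empty] at h1
      exact h1 (subset_closure rfl)
    have heq : ({x} : Set (PrimeSpectrum R)) = U ∩ closure {x} :=
      subset_antisymm (by rintro _ rfl; exact ⟨hxU, subset_closure rfl⟩) hsub
    have hcl : IsClosed ({x} : Set (PrimeSpectrum R)) := by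
      apply isClosed_singleton_of_isLocallyClosed_singleton
      rw [heq]
      exact hU.isLocallyClosed.inter isClosed_closure.isLocallyClosed
    obtain ⟨y, hy, rfl⟩ := hx1
    obtain ⟨y', hy'E, hy'cl, hy'x⟩ := exists_closed_point_in_fibre E hE y hy hcl
    refine ⟨y', ⟨hy'E, ?_⟩, hy'x⟩
    rw [hy'cl.closure_eq]
    exact Set.inter_eq_left.mpr (Set.singleton_subset_iff.mpr hy'E)
  have hBC : PrimeSpectrum.comap (algebraMap R S) '' {y | y ∈ E ∧ closure {y} ∩ E = {y}} ⊆
        {x | IsClosed ({x} : Set (PrimeSpectrum R))} ∩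
          PrimeSpectrum.comap (algebraMap R S) '' E := by
    rintro _ ⟨y, ⟨hy1, hy2⟩, rfl⟩
    exact ⟨isClosed_singleton_comap y (isClosed_singleton_of_closed_in E hE y hy1 hy2),
      y, hy1, rfl⟩
  have hCA : {x | IsClosed ({x} : Set (PrimeSpectrum R))} ∩
          PrimeSpectrum.comap (algebraMap R S) '' E ⊆
      {x | x ∈ PrimeSpectrum.comap (algebraMap R S) '' E ∧
        closure {x} ∩ PrimeSpectrum.comap (algebraMap R S) '' E = {x}} := by
    rintro x ⟨hx1, hx2⟩
    refine ⟨hx2, ?_⟩
    rw [IsClosed.closure_eq hx1]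
    exact Set.inter_eq_left.mpr (Set.singleton_subset_iff.mpr hx2)
  exact ⟨subset_antisymm hAB (hBC.trans hCA), subset_antisymm hBC (hCA.trans hAB)⟩

/-- S9653. -/
theorem mem_image_iff {R S : Type u} [CommRing R] [CommRing S] [Algebra R S]
    [IsJacobsonRing R] [IsJacobsonRing S] [Algebra.FiniteType R S]
    (E : Set (PrimeSpectrum S)) (hE : Topology.IsConstructible E) (ξ : PrimeSpectrum R) :
    ξ ∈ PrimeSpectrum.comap (algebraMap R S) '' E ↔
      closure ({ξ} : Set (PrimeSpectrum R)) ⊆
        closure (closure {ξ} ∩ PrimeSpectrum.comap (algebraMap R S) ''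
          {y | y ∈ E ∧ closure {y} ∩ E = {y}}) := by
  constructor
  · intro hξ
    obtain ⟨U, hU, h1, h2⟩ := exists_open_of_mem_image E hE ξ hξ
    rw [(closedPoints_image (R := R) E hE).2]
    have hZ : IsLocallyClosed (U ∩ closure ({ξ} : Set (PrimeSpectrum R))) :=
      hU.isLocallyClosed.inter isClosed_closure.isLocallyClosed
    rw [← JacobsonSpace.closure_inter_closedPoints_eq_closure hZ] at h1
    refine h1.trans (closure_mono ?_)
    rintro z ⟨hz1, hz2⟩
    exact ⟨hz1.2, hz2, h2 hz1⟩
  · intro h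
    apply mem_image_of_mem_closure E hE ξ
    have h1 := h (subset_closure rfl)
    refine closure_mono ?_ h1
    exact Set.inter_subset_inter_right _ (Set.image_mono fun y hy => hy.1)

end Groth.Agent.Helper7.ConsImg
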